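import Groth.Agent.Lib.FGAInt26.Basic
import Groth.Agent.Lib.EulerConst10.BaseChange

/-!
# `FGA.intNum` and field extensions
-/

set_option autoImplicit false
set_option linter.all false
set_option backward.isDefEq.respectTransparency false
set_option maxHeartbeats 400000

universe u

open CategoryTheory CategoryTheory.Limits AlgebraicGeometry TopologicalSpace
open GrothLib.Euler (tF)

noncomputable section

namespace GrothLib.FGAInt26

theorem nonempty_pullback_tensorList {X Y : Scheme.{u}} (g : Y ⟶ X) :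
    ∀ l : List X.Modules, Nonempty ((Scheme.Modules.pullback g).obj (FGA.tensorList l) ≅
      FGA.tensorList (l.map (Scheme.Modules.pullback g).obj))
  | [] => ⟨OX.pullUnitIso g⟩
  | M :: l => by
    obtain ⟨e⟩ := nonempty_pullback_tensorList g l
    exact ⟨OX.pullTensorIso g M (FGA.tensorList l) ≪≫ Ample.LineData.tensorModMapIso (Iso.refl _) e⟩

/-- The truncated Euler characteristic does not change along a field extension. -/
theorem eulerCharLE_isPullback {k K : Type u} [Field k] [Field K] (φ : k →+* K) {Z Z' : Scheme.{u}}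
    (p : Z ⟶ Spec (CommRingCat.of k)) (q : Z' ⟶ Spec (CommRingCat.of K)) (i : Z' ⟶ Z)
    (H : IsPullback i q p (Spec.map (CommRingCat.ofHom φ))) [IsProper p] (M : Z.Modules)
    [M.IsQuasicoherent] (d : ℕ) :
    @FGA.eulerCharLE K _ Z' ⟨q⟩ ((Scheme.Modules.pullback i).obj M) d = @FGA.eulerCharLE k _ Z ⟨p⟩ M d := by
  letI : Z.Over (Spec (CommRingCat.of k)) := ⟨p⟩
  letI : Z'.Over (Spec (CommRingCat.of K)) := ⟨q⟩
  haveI : IsProper (Z ↘ Spec (CommRingCat.of k)) := ‹IsProper p›
  haveI := Euler.isNoetherian_of_proper (X := Z) k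
  haveI : Z.IsSeparated := ⟨by rw [← terminal.comp_from p]; infer_instance⟩
  unfold FGA.eulerCharLE
  refine Finset.sum_congr rfl fun j _ => ?_
  congr 2
  obtain ⟨e⟩ := BCCoh.exists_flatBC φ
    (show φ.Flat from letI := φ.toAlgebra; inferInstanceAs (Module.Flat k K)) p q i H M j
  letI := φ.toAlgebra
  letI := BCCoh.modHH p M j
  letI := BCCoh.modHH q ((Scheme.Modules.pullback i).obj M) j
  have h1 := e.finrank_eq
  rw [Module.finrank_baseChange] at h1
  exact h1.symm

theorem eulerCharLE_congr {k : Type u} [Field k] {Z : Scheme.{u}} [Z.Over (Spec (CommRingCat.of k))]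
    {A B : Z.Modules} (e : A ≅ B) (d : ℕ) : FGA.eulerCharLE k Z A d = FGA.eulerCharLE k Z B d :=
  Finset.sum_congr rfl fun i _ => by rw [(Euler.hhEquiv (A := k) e i).finrank_eq]

end GrothLib.FGAInt26
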