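import Groth.Agent.Lib.FGAInt26.Basic
import Groth.Agent.Lib.Snapper.Positive

/-!
# Positivity of intersection numbers of ample modules
-/

set_option autoImplicit false
set_option linter.all false
set_option backward.isDefEq.respectTransparency false
set_option maxHeartbeats 400000

universe u

open CategoryTheory CategoryTheory.Limits AlgebraicGeometry TopologicalSpace

noncomputable section

namespace GrothLib.FGAInt26

open GrothLib.Euler (tF)
open GrothLib.Cube (Pic clsMod HasCls hasCls_clsMod hasCls_structureModule)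
open GrothLib.HodgeIndex (rep isInv_rep cls_rep)
open GrothLib.Snapper (tw DimLT IsTop phi mixed topTerm finite_support_topTerm phi_sub_sum_mem ptMod)

variable {X : Scheme.{u}} (k : Type u) [Field k] [X.Over (Spec (CommRingCat.of k))]

theorem phi_eq_ev_cls {r : ℕ} (F : X.Modules) {L : Fin r → X.Modules} (hL : ∀ i, PicF.IsInvertible (L i))
    (n : Fin r → ℕ) : phi k r L F n = (ev k F (∏ i, clsMod (hL i) ^ n i) : ℚ) := by
  have h := Kleiman.cls_invPows r L hL n
  exact congrArg Int.cast (ev_eq k ⟨_, h⟩).symm

theorem mixed_eq_del {r : ℕ} (F : X.Modules) {L : Fin r → X.Modules} (hL : ∀ i, PicF.IsInvertible (L i)) :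
    mixed r (phi k r L F) = (-1) ^ r * (del (ev k F) (fun i => clsMod (hL i)) : ℚ) := by
  rw [cast_del, ← mul_assoc, ← mul_pow, neg_one_mul, neg_neg, one_pow, one_mul]
  congr 1
  funext n
  rw [phi_eq_ev_cls k F hL, phi_eq_ev]

variable [IsProper (X ↘ Spec (CommRingCat.of k))]

theorem ev_additive {S : ShortComplex X.Modules} (hS : S.ShortExact)
    (h₁ : Coh.IsCoh S.X₁) (h₂ : Coh.IsCoh S.X₂) (h₃ : Coh.IsCoh S.X₃) (z : Pic X) :
    ev k S.X₂ z = ev k S.X₁ z + ev k S.X₃ z := by
  have h := congrFun (Snapper.phi_additive k (L := fun _ : Fin 1 => rep z) (fun _ => isInv_rep z) hS h₁ h₂ h₃)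
    (fun _ => 1)
  rw [Pi.add_apply, phi_eq_ev, phi_eq_ev, phi_eq_ev] at h
  simp only [pow_one, Fin.prod_univ_one] at h
  exact_mod_cast h

theorem del_pow {r : ℕ} {F : X.Modules} (hF : Coh.IsCoh F) (h : DimLT (CohB1.support F) (r + 2)) (a : Pic X)
    (z : Fin r → Pic X) : ∀ n : ℕ, del (ev k F) (Fin.cons (a ^ n) z : Fin (r + 1) → Pic X) =
      n * del (ev k F) (Fin.cons a z : Fin (r + 1) → Pic X)
  | 0 => by rw [pow_zero, del_cons]; simp
  | n + 1 => by rw [pow_succ, del_mul k hF h, del_pow hF h a z n]; push_cast; ring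

/-- The induction hypothesis in dimension `d`. -/
def MultiPos (d : ℕ) : Prop :=
  ∀ (X : Scheme.{u}) [X.Over (Spec (CommRingCat.of k))] [IsProper (X ↘ Spec (CommRingCat.of k))]
    (L : Fin d → X.Modules), (∀ i, CohB1.IsAmple (L i)) → ∀ F : X.Modules, Coh.IsCoh F →
      DimLT (CohB1.support F) (d + 1) →
      (∃ x ∈ CohB1.support F, IsTop d x) → 0 < mixed d (phi k d L F)

variable {k}

theorem multiPos_integral_succ [IsIntegral X] {e : ℕ} (ih : MultiPos.{u} k e)
    (hd : topologicalKrullDim X = ((e + 1 : ℕ) : WithBot ℕ∞)) {L : Fin (e + 1) → X.Modules}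
    (hA : ∀ i, CohB1.IsAmple (L i)) :
    0 < mixed (e + 1) (phi k (e + 1) L (Coh.structureModule X)) := by
  haveI := Euler.isNoetherian_of_proper (X := X) k
  have hO : Coh.IsCoh (Coh.structureModule X) := Euler.isCoh_of_isInvertible Euler.isInvertible_structure
  have hu : DimLT (Set.univ : Set X) (e + 1 + 1) := Snapper.dimLT_of_dim_le
    ((IsHomeomorph.topologicalKrullDim_eq _ (Homeomorph.Set.univ X).isHomeomorph).le.trans hd.le)
  let η := genericPoint X
  have htop : IsTop (e + 1) η := by
    show topologicalKrullDim (closure ({η} : Set X)) = _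
    rw [(genericPoint_spec X).def]
    exact (IsHomeomorph.topologicalKrullDim_eq _ (Homeomorph.Set.univ X).isHomeomorph).trans hd
  obtain ⟨y, hy, hyη⟩ : ∃ y : X, IsTop e y ∧ y ≠ η := by
    obtain ⟨l, -, hl⟩ := htop.exists_series
    have hlen : l.length = e + 1 := le_antisymm (Nat.lt_succ_iff.1 (hu l fun _ => trivial)) hl
    let i : Fin (l.length + 1) := ⟨e, by omega⟩
    have hlt : l i < l.last := l.strictMono (show e < l.length by omega)
    have hne : l i ≠ η := fun h => hlt.not_ge (h ▸ genericPoint_specializes _)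
    refine ⟨l i, Snapper.isTop_of (Snapper.dimLT_of_notMem htop.dimLT ?_ ?_) fun h => ?_, hne⟩
    · rw [show closure ({η} : Set X) = Set.univ from (genericPoint_spec X).def]
      exact Set.subset_univ _
    · exact fun h => hne (Specializes.antisymm (specializes_iff_mem_closure.2 h) (genericPoint_specializes _)).eq
    · have := h (l.take i) fun j => specializes_iff_mem_closure.1 (by
        show l i ⤳ (l.take i) j
        exact l.monotone (show (j : ℕ) ≤ e from Nat.lt_succ_iff.1 j.2))
      simp [i] at this
  let O : X.Opens := ⟨(closure ({y} : Set X))ᶜ, isClosed_closure.isOpen_compl⟩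
  have hηO : η ∈ O := fun h =>
    hyη (Specializes.antisymm (specializes_iff_mem_closure.2 h) (genericPoint_specializes _)).eq
  obtain ⟨n, s, hηs, hsO, -⟩ := Ample.exists_affine_genLocus_le (hA 0) hηO
  let M := CohB1.tensorPow (L 0) (n + 1)
  have hM : PicF.IsInvertible M := Ample.isInvertible_tensorPow (hA 0).1 _
  have hs0 : s ≠ 0 := fun h => by
    have hb := (Snapper.stalk_bijective_of_mem_genLocus s hηs).1
    haveI : Nontrivial ((Coh.structureModule X).presheaf.stalk η) :=
      (HomSh.unitStalk (X := X) η).symm.toEquiv.nontrivial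
    obtain ⟨v, hv⟩ := exists_ne (0 : (Coh.structureModule X).presheaf.stalk η)
    refine hv (hb ?_)
    subst h
    obtain ⟨U, hU, a, rfl⟩ := TopCat.Presheaf.exists_germ_eq (Coh.structureModule X).presheaf v
    rw [QCoh.stalkLin_germ, map_zero]
    exact map_zero _
  haveI := Euler.mono_of_ne_zero Euler.isInvertible_structure hM hs0
  let S : ShortComplex X.Modules := ShortComplex.mk s (cokernel.π s) (cokernel.condition s)
  have hS : S.ShortExact :=
    haveI : Mono S.f := ‹Mono s›
    haveI : Epi S.g := inferInstanceAs (Epi (cokernel.π s))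
    { exact := ShortComplex.exact_of_g_is_cokernel _ (cokernelIsCokernel _) }
  have hQ : Coh.IsCoh (cokernel s) := QCoh.isCoh_cokernel s hO (Euler.isCoh_of_isInvertible hM)
  have hQd : DimLT (CohB1.support (cokernel s)) (e + 1) := by
    refine (Snapper.dimLT_of_notMem htop.dimLT (T := (CohB1.genLocus M s : Set X)ᶜ) ?_ fun h => h hηs).mono fun x hx hxs => ?_
    · rw [show closure ({η} : Set X) = Set.univ from (genericPoint_spec X).def]
      exact Set.subset_univ _
    · exact QCoh.notMem_support_cokernel_of_surjective s (Snapper.stalk_bijective_of_mem_genLocus s hxs).2 hx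
  have hyQ : y ∈ CohB1.support (cokernel s) := by
    by_contra h
    let U : X.Opens := ⟨(CohB1.support (cokernel s))ᶜ, (QCoh.isClosed_support_of_isCoh hQ).isOpen_compl⟩
    refine hsO (Snapper.le_genLocus s U (fun x hx => ⟨QCoh.stalkLin_injective s x, ?_⟩) (show y ∈ U from h))
      (subset_closure rfl)
    intro v
    haveI : Subsingleton ((cokernel s).presheaf.stalk x) := QCoh.stalk_subsingleton_of_notMem hx
    have he := (ShortComplex.ShortExact.moduleCat_exact_iff_function_exact _).1 ((OX.shortExact_iff S).1 hS x).exact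
    exact (he v).1 (Subsingleton.elim (α := (cokernel s).presheaf.stalk x) _ _)
  have hpos := ih X (fun i => L i.succ) (fun i => hA _) (cokernel s) hQ hQd ⟨y, hyQ, hy⟩
  rw [mixed_eq_del k _ (fun i => (hA (Fin.succ i)).1)] at hpos
  rw [mixed_eq_del k _ (fun i => (hA i).1)]
  set z : Fin e → Pic X := fun i => clsMod (hA i.succ).1 with hz
  have hcons : (fun i => clsMod (hA i).1) = (Fin.cons (clsMod (hA 0).1) z : Fin (e + 1) → Pic X) := by
    funext i; refine Fin.cases ?_ (fun j => ?_) i <;> simp [hz]
  rw [hcons]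
  have h1 : del (ev k (Coh.structureModule X)) (Fin.cons (clsMod (hA 0).1 ^ (n + 1)) z : Fin (e + 1) → Pic X) =
      - del (ev k (cokernel s)) z := by
    have hadd : ∀ w, ev k (Coh.structureModule X) (clsMod (hA 0).1 ^ (n + 1) * w) =
        ev k (Coh.structureModule X) w + ev k (cokernel s) w := fun w => by
      rw [← ev_additive k hS hO (Euler.isCoh_of_isInvertible hM) hQ w, ← ev_tw]
      obtain ⟨eM⟩ := Snapper.tw_iso (F := Coh.structureModule X) ((hasCls_clsMod (hA 0).1).tensorPow (n + 1))
      exact ev_iso k (eM ≪≫ OX.tensorUnitLeftIso M) w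
    rw [del_cons, funext hadd, del_add]
    ring
  rw [del_pow k hO (hu.mono fun _ _ => trivial)] at h1
  have h2 : ((n : ℚ) + 1) * ((-1) ^ (e + 1) * (del (ev k (Coh.structureModule X)) (Fin.cons (clsMod (hA 0).1) z : Fin (e + 1) → Pic X) : ℚ)) =
      (-1) ^ e * (del (ev k (cokernel s)) z : ℚ) := by
    have h1' : ((n : ℚ) + 1) * (del (ev k (Coh.structureModule X)) (Fin.cons (clsMod (hA 0).1) z : Fin (e + 1) → Pic X) : ℚ) =
        - (del (ev k (cokernel s)) z : ℚ) := by exact_mod_cast h1
    rw [← mul_assoc, mul_comm ((n : ℚ) + 1), mul_assoc, h1', pow_succ]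
    ring
  rw [← h2] at hpos
  exact (mul_pos_iff_of_pos_left (by positivity)).1 hpos

variable (k) in
/-- Intersection numbers of ample modules are positive on a coherent module of top dimension. -/
theorem multiPos : ∀ d : ℕ, MultiPos.{u} k d := by
  intro d
  induction d using Nat.strong_induction_on with
  | _ d ih =>
    intro X _ _ L hA F hF hd hx
    haveI := Euler.isNoetherian_of_proper (X := X) k
    have hFc := QCoh.isClosed_support_of_isCoh hF
    have h := Snapper.mixed_eq_zero (phi_sub_sum_mem k (L := L) (fun i => (hA i).1) hF hd)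
    rw [map_sub, sub_eq_zero, map_finsum (mixed d) (finite_support_topTerm (phi k d L) hFc hd subset_rfl)] at h
    have hpt : ∀ x : X, IsTop d x → 0 < mixed d (phi k d L (ptMod x)) := by
      intro x hxt
      let I := Scheme.IdealSheafData.vanishingIdeal (⟨closure ({x} : Set X), isClosed_closure⟩ : Closeds X)
      letI : I.subscheme.Over (Spec (CommRingCat.of k)) := ⟨I.subschemeι ≫ X ↘ Spec (CommRingCat.of k)⟩
      haveI : IsProper (I.subscheme ↘ Spec (CommRingCat.of k)) :=
        inferInstanceAs (IsProper (I.subschemeι ≫ X ↘ Spec (CommRingCat.of k)))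
      haveI : IsIntegral I.subscheme := Snapper.isIntegral_pt x
      let LZ := fun i => (Scheme.Modules.pullback I.subschemeι).obj (L i)
      have hAZ : ∀ i, CohB1.IsAmple (LZ i) := fun i => Ample.isAmple_pullback_of_isAffineHom I.subschemeι (hA i)
      have hphi : phi k d L (ptMod x) = phi k d LZ (Coh.structureModule I.subscheme) :=
        funext fun n => (Snapper.phi_push k I.subschemeι rfl (fun i => (hA i).1) n).trans
          (congrArg Int.cast (Euler.euler_of_iso k (OX.tensorUnitLeftIso _).symm))
      have hdim : topologicalKrullDim I.subscheme = (d : WithBot ℕ∞) := by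
        refine (IsHomeomorph.topologicalKrullDim_eq _
          I.subschemeι.isClosedEmbedding.isEmbedding.toHomeomorph.isHomeomorph).trans ?_
        rw [Snapper.range_pt]
        exact hxt
      rw [hphi]
      cases d with
      | zero =>
        rw [show LZ = fun _ => Coh.structureModule I.subscheme from funext fun i => i.elim0]
        exact Snapper.mixed_integral_zero (by exact_mod_cast hdim.le) _
      | succ e => exact multiPos_integral_succ (ih e (Nat.lt_succ_self e)) hdim hAZ
    show 0 < mixed d (phi k d L F)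
    rw [h]
    obtain ⟨x, hxF, hxt⟩ := hx
    have hnn : ∀ y, 0 ≤ mixed d (topTerm (phi k d L) d F y) := fun y => by
      by_cases hy : IsTop d y
      · rw [Snapper.topTerm_of _ hy, map_nsmul]; exact nsmul_nonneg (hpt y hy).le _
      · simp [topTerm, hy]
    refine lt_of_lt_of_le ?_ (single_le_finsum x
      ((finite_support_topTerm (phi k d L) hFc hd subset_rfl).subset fun y hy h0 => hy (by simp only; rw [h0, map_zero])) hnn)
    rw [Snapper.topTerm_of _ hxt, map_nsmul]
    refine nsmul_pos (hpt x hxt) ?_
    intro h0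
    have hne := Snapper.length_ne_top k hF hd hxt
    rw [Snapper.mult, ENat.toNat_eq_zero] at h0
    rcases h0 with h0 | h0
    · exact hxF (Module.length_eq_zero_iff.1 h0)
    · exact hne h0

end GrothLib.FGAInt26

namespace GrothLib.FGAInt26

open GrothLib.Cube (Pic)
open GrothLib.Snapper (DimLT tw)

/-- Inverting all the classes changes a difference of maximal order by a sign. -/
theorem del_inv {X : Scheme.{u}} (k : Type u) [Field k] [X.Over (Spec (CommRingCat.of k))]
    [IsProper (X ↘ Spec (CommRingCat.of k))] {r : ℕ} {F : X.Modules} (hF : Coh.IsCoh F)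
    (h : DimLT (CohB1.support F) (r + 1)) (z : Fin r → Pic X) :
    del (ev k F) (fun i => (z i)⁻¹) = (-1) ^ r * del (ev k F) z := by
  rw [← del_shift k hF h (∏ i, (z i)⁻¹) z]
  unfold del
  rw [Finset.mul_sum]
  refine Fintype.sum_equiv (Equiv.piCongrRight fun _ => ⟨not, not, Bool.not_not, Bool.not_not⟩) _ _ fun b => ?_
  rw [← mul_assoc]
  congr 1
  · rw [show ((-1 : ℤ)) ^ r = ∏ _i : Fin r, (-1 : ℤ) by simp, ← Finset.prod_mul_distrib]
    exact Finset.prod_congr rfl fun i _ => by cases hb : b i <;> simp [hb]
  · beta_reduce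
    rw [← Finset.prod_mul_distrib]
    congr 1
    exact Finset.prod_congr rfl fun i _ => by cases hb : b i <;> simp [hb]

end GrothLib.FGAInt26
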