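import Groth.Agent.Lib.FGAInt26.AlgEquiv
import Groth.Agent.Lib.FGAInt26.Positive

/-!
# Intersection numbers depend only on degrees on curves
-/

set_option autoImplicit false
set_option linter.all false
set_option backward.isDefEq.respectTransparency false
set_option maxHeartbeats 400000

universe u

open CategoryTheory CategoryTheory.Limits AlgebraicGeometry TopologicalSpace

noncomputable section

namespace GrothLib.FGAInt26

open GrothLib.Euler (tF)
open GrothLib.Cube (Pic clsMod HasCls hasCls_clsMod hasCls_structureModule)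
open GrothLib.HodgeIndex (rep isInv_rep cls_rep)
open GrothLib.Snapper (tw DimLT IsTop ptMod topTerm top_decomposition)
open GrothLib.QCoh (stalkLin)

variable (k : Type u) [Field k] {X : Scheme.{u}} [X.Over (Spec (CommRingCat.of k))]

/-- A class of degree zero on all integral curves. -/
def NumTriv (c : Pic X) : Prop :=
  ∀ (Y : Scheme.{u}) (i : Y ⟶ X) [IsClosedImmersion i], IsIntegral Y → topologicalKrullDim Y = 1 →
    ev k ((Coh.push i).obj (Coh.structureModule Y)) c = ev k ((Coh.push i).obj (Coh.structureModule Y)) 1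

variable [IsProper (X ↘ Spec (CommRingCat.of k))]

theorem ev_add_del {S : ShortComplex X.Modules} (hS : S.ShortExact)
    (h₁ : Coh.IsCoh S.X₁) (h₂ : Coh.IsCoh S.X₂) (h₃ : Coh.IsCoh S.X₃) {r : ℕ} (z : Fin r → Pic X) :
    del (ev k S.X₂) z = del (ev k S.X₁) z + del (ev k S.X₃) z := by
  rw [show ev k S.X₂ = fun w => ev k S.X₁ w + ev k S.X₃ w from funext fun w => ev_additive k hS h₁ h₂ h₃ w,
    del_add]

include k in
/-- An additive function killing small supports takes the same value at `O_Z` and at its twist. -/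
theorem eq_twist_of_small {x : X} {n : ℕ} (hx : IsTop n x) (ψ : X.Modules → ℤ)
    (hadd : ∀ T : ShortComplex X.Modules, T.ShortExact → Coh.IsCoh T.X₁ → Coh.IsCoh T.X₂ →
      Coh.IsCoh T.X₃ → ψ T.X₂ = ψ T.X₁ + ψ T.X₃)
    (hsmall : ∀ G : X.Modules, Coh.IsCoh G → DimLT (CohB1.support G) n → ψ G = 0) (b : Pic X) :
    ψ (tw (ptMod x) b) = ψ (ptMod x) := by
  have := Euler.isNoetherian_of_proper (X := X) k
  let M := rep b
  have hM0 : PicF.IsInvertible M := isInv_rep b
  have hM : FlatMod.IsFinLocFree M := Euler.isFinLocFree_of_isInvertible hM0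
  have hM1 : FlatMod.IsFinLocFreeOfRank 1 M := Euler.isFinLocFreeOfRank_one' hM0
  obtain ⟨U, hxU, ⟨e⟩⟩ := hM0 x
  let A := ptMod x
  let B := (tF M).obj A
  have hA := Snapper.isCoh_ptMod (X := X) x
  have hB := Euler.isCoh_tF hA hM
  let P := Scheme.Modules.restrictFunctorIsoPullback U.ι
  let eBA : B.restrict U.ι ≅ A.restrict U.ι :=
    P.app _ ≪≫ OX.pullTensorIso U.ι A M ≪≫
      ((DCoh.tensorBi (X := U.toScheme)).obj _).mapIso ((P.app M).symm ≪≫ e) ≪≫
        Euler.tFUnitIso _ ≪≫ (P.app A).symm
  obtain ⟨H, p, p', hH, hHs, hbij⟩ := Snapper.exists_comparison_support hA hB U eBA.symm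
  let T : Set X := closure {x} ∩ (U : Set X)ᶜ
  have hT : DimLT T n := Snapper.dimLT_of_notMem hx.dimLT Set.inter_subset_left fun h => h.2 hxU
  have hBs : CohB1.support B ⊆ closure {x} := (Euler.support_tF_subset hM1).trans (Snapper.support_ptMod x)
  have hHs' : CohB1.support H ⊆ closure {x} := hHs.trans (Set.union_subset (Snapper.support_ptMod x) hBs)
  have hzero : ∀ (C : X.Modules) (f : H ⟶ C), Coh.IsCoh C → CohB1.support C ⊆ closure {x} →
      (∀ y ∈ U, Function.Bijective (stalkLin f y)) → ψ H = ψ C := by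
    intro C f hC hCs hb
    refine Snapper.eq_of_kernel_cokernel ψ hadd hH hC f
      (hsmall _ (QCoh.isCoh_kernel f hH hC) (hT.mono fun y hy => ⟨hHs' (QCoh.support_subset_of_mono (kernel.ι f) hy),
        fun hyU => QCoh.notMem_support_kernel_of_injective f (hb y hyU).1 hy⟩))
      (hsmall _ (QCoh.isCoh_cokernel f hH hC) (hT.mono fun y hy => ⟨hCs (QCoh.support_subset_of_epi (cokernel.π f) hy),
        fun hyU => QCoh.notMem_support_cokernel_of_surjective f (hb y hyU).2 hy⟩))
  have h1 := hzero A p hA (Snapper.support_ptMod x) fun y hy => (hbij y hy).1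
  have h2 := hzero B p' hB hBs fun y hy => (hbij y hy).2
  show ψ B = ψ A
  rw [← h1, h2]

include k in
/-- An additive function killing small supports, and vanishing on the top pieces, vanishes. -/
theorem eq_zero_of_top {n : ℕ} (ψ : X.Modules → ℤ) (hiso : ∀ A B : X.Modules, (A ≅ B) → ψ A = ψ B)
    (hadd : ∀ T : ShortComplex X.Modules, T.ShortExact → Coh.IsCoh T.X₁ → Coh.IsCoh T.X₂ →
      Coh.IsCoh T.X₃ → ψ T.X₂ = ψ T.X₁ + ψ T.X₃)
    (hsmall : ∀ G : X.Modules, Coh.IsCoh G → DimLT (CohB1.support G) n → ψ G = 0)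
    (hpt : ∀ x : X, IsTop n x → ψ (ptMod x) = 0)
    {F : X.Modules} (hF : Coh.IsCoh F) (hd : DimLT (CohB1.support F) (n + 1)) : ψ F = 0 := by
  have := Euler.isNoetherian_of_proper (X := X) k
  obtain ⟨-, h⟩ := top_decomposition ψ (fun A B ⟨e⟩ => hiso A B e) (QCoh.isClosed_support_of_isCoh hF) hd
    (fun T hT a b c _ => hadd T hT a b c) (fun G hG _ hGd => hsmall G hG hGd) F hF subset_rfl
  rw [h]
  refine finsum_eq_zero_of_forall_eq_zero fun x => ?_
  by_cases hx : IsTop n x
  · rw [Snapper.topTerm_of ψ hx, hpt x hx, smul_zero]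
  · simp [topTerm, hx]

/-- A difference containing a numerically trivial class vanishes in maximal order. -/
theorem del_numTriv {c : Pic X} (hc : NumTriv k c) : ∀ (r : ℕ) (z : Fin r → Pic X) (F : X.Modules),
    Coh.IsCoh F → DimLT (CohB1.support F) (r + 2) →
    del (ev k F) (Fin.cons c z : Fin (r + 1) → Pic X) = 0
  | 0, z, F, hF, hd => by
    have := Euler.isNoetherian_of_proper (X := X) k
    refine eq_zero_of_top k (fun G => del (ev k G) (Fin.cons c z : Fin 1 → Pic X))
      (fun A B e => congrArg (fun χ => del χ _) (funext fun w => ev_iso k e w))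
      (fun T hT a b c' => ev_add_del k hT a b c' _) (fun G hG hGd => del_eq_zero k hG hGd _) (fun x hx => ?_) hF hd
    let I := Scheme.IdealSheafData.vanishingIdeal (⟨closure ({x} : Set X), isClosed_closure⟩ : Closeds X)
    haveI : IsIntegral I.subscheme := Snapper.isIntegral_pt x
    have hdim : topologicalKrullDim I.subscheme = 1 := by
      refine (IsHomeomorph.topologicalKrullDim_eq _
        I.subschemeι.isClosedEmbedding.isEmbedding.toHomeomorph.isHomeomorph).trans ?_
      rw [Snapper.range_pt]
      exact hx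
    have h := hc I.subscheme I.subschemeι inferInstance hdim
    show del (ev k (ptMod x)) (Fin.cons c z : Fin 1 → Pic X) = 0
    rw [del_cons, sub_eq_zero]
    simpa [del] using h.symm
  | r + 1, z, F, hF, hd => by
    have := Euler.isNoetherian_of_proper (X := X) k
    let z' : Fin r → Pic X := fun i => z i.succ
    let D : X.Modules → ℤ := fun G => del (ev k G) (Fin.cons c z' : Fin (r + 1) → Pic X)
    have hsmall : ∀ G : X.Modules, Coh.IsCoh G → DimLT (CohB1.support G) (r + 2) → D G = 0 :=
      fun G hG hGd => del_numTriv hc r z' G hG hGd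
    have hDadd : ∀ T : ShortComplex X.Modules, T.ShortExact → Coh.IsCoh T.X₁ → Coh.IsCoh T.X₂ →
        Coh.IsCoh T.X₃ → D T.X₂ = D T.X₁ + D T.X₃ := fun T hT a b c' => ev_add_del k hT a b c' _
    have hswap : ∀ G : X.Modules, del (ev k G) (Fin.cons c z : Fin (r + 2) → Pic X) = D G - D (tw G (z 0)) := by
      intro G
      rw [← del_comp (ev k G) _ (Equiv.swap 0 1),
        show (Fin.cons c z : Fin (r + 2) → Pic X) ∘ (Equiv.swap 0 1 : Equiv.Perm (Fin (r + 2))) =
          Fin.cons (z 0) (Fin.cons c z' : Fin (r + 1) → Pic X) from ?_, del_cons]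
      · exact congrArg (fun χ => _ - del χ _) (funext fun w => (ev_tw k G (z 0) w).symm)
      · funext i
        refine Fin.cases ?_ (fun j => Fin.cases ?_ (fun l => ?_) j) i
        · simp only [Function.comp_apply, Equiv.swap_apply_left, Fin.cons_zero]
          rfl
        · simp [Function.comp_apply, Fin.succ_zero_eq_one]
        · have h0 : (l.succ.succ : Fin (r + 2)) ≠ 0 := Fin.succ_ne_zero _
          have h1 : (l.succ.succ : Fin (r + 2)) ≠ 1 := fun h => Fin.succ_ne_zero l
            (Fin.succ_injective _ (h.trans Fin.succ_zero_eq_one.symm))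
          simp [Function.comp_apply, Equiv.swap_apply_of_ne_of_ne h0 h1, z']
    refine eq_zero_of_top k (fun G => del (ev k G) (Fin.cons c z : Fin (r + 2) → Pic X))
      (fun A B e => congrArg (fun χ => del χ _) (funext fun w => ev_iso k e w))
      (fun T hT a b c' => ev_add_del k hT a b c' _) (fun G hG hGd => ?_) (fun x hx => ?_) hF hd
    · show del (ev k G) _ = 0
      rw [hswap, hsmall G hG hGd, hsmall _ (isCoh_tw k hG _) (dimLT_tw hGd _), sub_self]
    · show del (ev k (ptMod x)) _ = 0
      rw [hswap, eq_twist_of_small k hx D hDadd hsmall (z 0), sub_self]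

/-- Differences depend only on degrees on curves. -/
theorem del_eq_of_numTriv : ∀ (r : ℕ) (z z' : Fin r → Pic X) (F : X.Modules), Coh.IsCoh F →
    DimLT (CohB1.support F) (r + 1) → (∀ i, NumTriv k (z i * (z' i)⁻¹)) →
    del (ev k F) z = del (ev k F) z' := by
  intro r
  have step : ∀ (r : ℕ) (a b : Pic X) (w : Fin r → Pic X) (F : X.Modules), Coh.IsCoh F →
      DimLT (CohB1.support F) (r + 2) → NumTriv k (a * b⁻¹) →
      del (ev k F) (Fin.cons a w : Fin (r + 1) → Pic X) = del (ev k F) (Fin.cons b w : Fin (r + 1) → Pic X) := by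
    intro r a b w F hF hd hn
    have h := del_mul k hF hd (a * b⁻¹) b w
    rw [inv_mul_cancel_right, del_numTriv k hn r w F hF hd, zero_add] at h
    exact h
  -- replace the entries one at a time
  intro z z' F hF hd hn
  classical
  suffices h : ∀ s : Finset (Fin r), del (ev k F) (fun i => if i ∈ s then z' i else z i) = del (ev k F) z by
    simpa using (h Finset.univ).symm
  intro s
  induction s using Finset.induction_on with
  | empty => simp
  | @insert j s hj ih =>
    rw [← ih]
    obtain ⟨q, rfl⟩ : ∃ q, r = q + 1 := ⟨r - 1, by have := j.pos; omega⟩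
    let v : Fin (q + 1) → Pic X := fun i => if i ∈ s then z' i else z i
    let v' : Fin (q + 1) → Pic X := fun i => if i ∈ insert j s then z' i else z i
    show del (ev k F) v' = del (ev k F) v
    rw [← del_comp (ev k F) v' (Equiv.swap 0 j), ← del_comp (ev k F) v (Equiv.swap 0 j)]
    have e1 : v ∘ (Equiv.swap 0 j : Equiv.Perm (Fin (q + 1))) =
        Fin.cons (z j) (fun i => v (Equiv.swap 0 j i.succ)) := by
      funext i; refine Fin.cases ?_ (fun i => ?_) i <;> simp [v, hj]
    have e2 : v' ∘ (Equiv.swap 0 j : Equiv.Perm (Fin (q + 1))) =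
        Fin.cons (z' j) (fun i => v (Equiv.swap 0 j i.succ)) := by
      funext i
      refine Fin.cases ?_ (fun i => ?_) i
      · simp [v']
      · have hne : Equiv.swap 0 j i.succ ≠ j := fun h => by
          have h0 := congrArg (Equiv.swap 0 j) h
          rw [Equiv.swap_apply_self, Equiv.swap_apply_right] at h0
          exact Fin.succ_ne_zero _ h0
        simp [v', v, Finset.mem_insert, hne]
    rw [e1, e2]
    exact (step q (z j) (z' j) _ F hF hd (hn j)).symm

end GrothLib.FGAInt26
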