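import Groth.Agent.Lib.FGAInt26.Basic
import Groth.Agent.Lib.EulerConst10.BaseChange
import Groth.Agent.Lib.HilbStrat10.Transfer
import Groth.Agent.Lib.FlatDesc.Basic
import Groth.Agent.Lib.FunMor20.CohInd
import Groth.Prelude.Def_Pic13

/-!
# Euler characteristics are invariant under algebraic equivalence
-/

set_option autoImplicit false
set_option linter.all false
set_option backward.isDefEq.respectTransparency false
set_option maxHeartbeats 400000

universe u

open CategoryTheory CategoryTheory.Limits AlgebraicGeometry TopologicalSpace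

noncomputable section

namespace GrothLib.FGAInt26

open GrothLib.Euler (tF)
open GrothLib.Cube (Pic clsMod HasCls hasCls_clsMod hasCls_structureModule)

/-- The Euler characteristic of the fibre at a point of `Spec k` is the Euler characteristic. -/
theorem fibEuler_point {k : Type u} [Field k] {X : Scheme.{u}} (f : X ⟶ Spec (CommRingCat.of k)) [IsProper f]
    (G : X.Modules) [G.IsQuasicoherent] (pt : Spec (CommRingCat.of k)) :
    EulerConst10.fibEuler f G pt = @Curv2.euler k _ X ⟨f⟩ G := by
  let S := Spec (CommRingCat.of k)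
  refine EulerConst10.euler_isPullback (Spec.preimage (S.fromSpecResidueField pt)).hom f
    (f.fiberToSpecResidueField pt) (f.fiberι pt) ?_ G
  rw [CommRingCat.ofHom_hom, Spec.map_preimage]
  exact IsPullback.of_hasPullback f (S.fromSpecResidueField pt)

variable (k : Type u) [Field k] {X : Scheme.{u}} [X.Over (Spec (CommRingCat.of k))]
  [IsProper (X ↘ Spec (CommRingCat.of k))]

/-- Twisting by a module algebraically equivalent to zero does not change `χ`. -/
theorem euler_algEquiv {L : X.Modules} (halg : Pic13.IsAlgEquivZero k X L) {F : X.Modules} (hF : Coh.IsCoh F) :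
    Curv2.euler k X ((tF L).obj F) = Curv2.euler k X F := by
  haveI := Euler.isNoetherian_of_proper (X := X) k
  obtain ⟨T, q, hT, hTft, hTqc, M, hM, t, t₀, ht, ht₀, ⟨e⟩, ⟨e₀⟩⟩ := halg
  haveI := hT
  haveI := hTft
  haveI := hTqc
  let p := X ↘ Spec (CommRingCat.of k)
  let π := pullback.snd p q
  let G₀ := (Scheme.Modules.pullback (pullback.fst p q)).obj F
  let G := (tF M).obj G₀
  haveI : IsProper π := MorphismProperty.pullback_snd (P := @IsProper) p q inferInstance
  haveI : IsLocallyNoetherian T := LocallyOfFiniteType.isLocallyNoetherian q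
  haveI : LocallyOfFinitePresentation π := inferInstance
  haveI hFq : F.IsQuasicoherent := hF.1
  have hFfp : CohB1.IsFP F := FunMor20.isFP_of_isCoh hF
  have hG₀ : CohB1.IsFP G₀ := FittSheaf.isFP_pullback (pullback.fst p q) F hFfp
  have hGfp : CohB1.IsFP G := EulerConst10.isFP_tF hM hG₀
  have hGfl : FlatMod.IsFlatOver π G := EulerConst10.isFlatOver_tF π hM
    (FlatDesc.isFlatOver_baseChange (IsPullback.of_hasPullback p q) F (HilbStrat10.isFlatOver_field p F))
  have hloc : IsLocallyConstant (fun s : T => EulerConst10.fibEuler π G s) :=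
    IsLocallyConstant.iff_exists_open _ |>.2 fun s => by
      obtain ⟨U, hs, hU⟩ := EulerConst10.exists_nhd_euler_eq π G hGfp hGfl s
      exact ⟨U, U.2, hs, hU⟩
  haveI := SemiPrufer.qcoh_of_isFP hGfp
  have key : ∀ (s : Spec (CommRingCat.of k) ⟶ T) (hs : s ≫ q = 𝟙 _) (L' : X.Modules),
      (Pic13.fibreMod k X q s hs M ≅ L') →
      EulerConst10.fibEuler π G (s (IsLocalRing.closedPoint k)) = Curv2.euler k X ((tF L').obj F) := by
    intro s hs L' eL
    let σ := Pic13.sliceAt k X q s hs
    have H : IsPullback σ p π s := by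
      refine IsPullback.of_right ?_ (by simp [σ, Pic13.sliceAt, π, p]) (IsPullback.of_hasPullback p q)
      · rw [hs, show σ ≫ pullback.fst p q = 𝟙 X from pullback.lift_fst _ _ _]
        exact IsPullback.of_horiz_isIso ⟨by simp⟩
    rw [← EulerConst10.fibEuler_baseChange H G (IsLocalRing.closedPoint k)]
    haveI := FittSheaf.isQuasicoherent_pullback σ G
    rw [fibEuler_point]
    refine Euler.euler_of_iso k (OX.pullTensorIso σ G₀ M ≪≫ Ample.LineData.tensorModMapIso
      ((Scheme.Modules.pullbackComp σ (pullback.fst p q)).app F ≪≫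
        (Scheme.Modules.pullbackCongr (pullback.lift_fst _ _ _)).app F ≪≫ (Scheme.Modules.pullbackId X).app F) eL)
  rw [← key t ht L e, hloc.apply_eq_of_preconnectedSpace _ (t₀ (IsLocalRing.closedPoint k)),
    key t₀ ht₀ _ e₀, Euler.euler_of_iso k (Euler.tFUnitIso F)]

end GrothLib.FGAInt26

namespace GrothLib.FGAInt26

open GrothLib.Cube (Pic clsMod HasCls hasCls_clsMod hasCls_structureModule)
open GrothLib.HodgeIndex (rep isInv_rep cls_rep)
open GrothLib.Snapper (tw DimLT)

variable (k : Type u) [Field k] {X : Scheme.{u}} [X.Over (Spec (CommRingCat.of k))]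
  [IsProper (X ↘ Spec (CommRingCat.of k))]

/-- If a power of a class does not change `χ`, neither does the class. -/
theorem ev_eq_of_pow {z : Pic X} {d n : ℕ} (hd : topologicalKrullDim X ≤ (d : WithBot ℕ∞)) (hn : 0 < n)
    (hz : ∀ G : X.Modules, Coh.IsCoh G → ev k G (z ^ n) = ev k G 1) {F : X.Modules} (hF : Coh.IsCoh F) :
    ev k F z = ev k F 1 := by
  have hall : ∀ j, ∀ G : X.Modules, Coh.IsCoh G → d + 1 ≤ j → del (ev k G) (fun _ : Fin j => z) = 0 :=
    fun j G hG hj => del_eq_zero k hG
      (fun l hl => (Snapper.dimLT_of_dim_le (S := (Set.univ : Set X))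
        ((IsHomeomorph.topologicalKrullDim_eq _ (Homeomorph.Set.univ X).isHomeomorph).trans_le hd) l
        fun _ => trivial).trans_le hj) _
  have hcons : ∀ j, (fun _ : Fin (j + 1) => z) = Fin.cons z (fun _ : Fin j => z) := fun j => by
    funext i; refine Fin.cases ?_ (fun i => ?_) i <;> simp
  have key : ∀ s j, d + 1 ≤ j + s + 1 → ∀ G : X.Modules, Coh.IsCoh G → del (ev k G) (fun _ : Fin (j + 1) => z) = 0 := by
    intro s
    induction s with
    | zero => exact fun j hj G hG => hall _ G hG (by omega)
    | succ s ih =>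
      intro j hj G hG
      have h2 := ih (j + 1) (by omega)
      have lin : ∀ (m : ℕ) (H : X.Modules), Coh.IsCoh H →
          del (ev k H) (Fin.cons (z ^ m) (fun _ : Fin j => z) : Fin (j + 1) → Pic X) =
            m * del (ev k H) (fun _ : Fin (j + 1) => z) := by
        intro m
        induction m with
        | zero => intro H _; rw [pow_zero, del_cons]; simp
        | succ m ihm =>
          intro H hH
          have h3 : del (ev k (tw H (z ^ m))) (fun _ : Fin (j + 1) => z) =
              del (ev k H) (fun _ : Fin (j + 1) => z) := by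
            have : ∀ i, del (ev k (tw H (z ^ i))) (fun _ : Fin (j + 1) => z) =
                del (ev k H) (fun _ : Fin (j + 1) => z) := by
              intro i
              induction i with
              | zero => rw [pow_zero]; congr 1; funext w; rw [ev_tw, one_mul]
              | succ i ihi =>
                have h4 := h2 (tw H (z ^ i)) (isCoh_tw k hH _)
                rw [hcons (j + 1), del_cons, sub_eq_zero] at h4
                rw [← ihi, h4]
                congr 1
                funext w
                rw [ev_tw, ev_tw, pow_succ, mul_assoc]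
            exact this m
          have hcomp : ev k (tw H (z ^ m)) = fun w => ev k H (z ^ m * w) := funext fun w => ev_tw k H _ w
          have e1 := ihm H hH
          rw [hcons j, del_cons, del_cons] at e1 ⊢
          rw [hcons j, hcomp, del_cons, del_cons] at h3
          simp only [← mul_assoc, ← pow_succ] at h3
          rw [pow_succ]
          rw [show (fun w => ev k H (z ^ m * z * w)) = fun w => ev k H (z ^ (m + 1) * w) from by simp [pow_succ]]
          push_cast
          linarith
      have h5 := lin n G hG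
      rw [del_cons] at h5
      have h6 : (fun w => ev k G (z ^ n * w)) = ev k G := funext fun w => by
        rw [mul_comm, ← ev_tw, hz _ (isCoh_tw k hG w), ev_tw, mul_one]
      rw [h6, sub_self] at h5
      exact (mul_eq_zero.1 h5.symm).resolve_left (by exact_mod_cast hn.ne')
  have h7 := key d 0 (by omega) F hF
  rw [hcons 0, del_cons, sub_eq_zero] at h7
  simpa [del] using h7.symm

/-- Twisting by a module τ-equivalent to zero does not change `χ`. -/
theorem ev_tauEquiv {L : X.Modules} (hL : PicF.IsInvertible L) (hτ : Pic13.IsTauEquivZero k X L) {d : ℕ}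
    (hd : topologicalKrullDim X ≤ (d : WithBot ℕ∞)) {F : X.Modules} (hF : Coh.IsCoh F) :
    ev k F (clsMod hL) = ev k F 1 := by
  obtain ⟨n, hn, halg⟩ := hτ
  refine ev_eq_of_pow k hd hn (fun G hG => ?_) hF
  rw [ev_eq k ((hasCls_clsMod hL).tensorPow n), euler_algEquiv k halg hG, ev_one]

/-- `χ` of twists of a direct image. -/
theorem ev_push {Z : Scheme.{u}} (i : Z ⟶ X) [IsAffineHom i] [Z.Over (Spec (CommRingCat.of k))]
    (hi : i ≫ X ↘ Spec (CommRingCat.of k) = Z ↘ Spec (CommRingCat.of k)) {L : X.Modules} {z : Pic X}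
    (hL : HasCls L z) :
    ev k ((Coh.push i).obj (Coh.structureModule Z)) z = Curv2.euler k Z ((Scheme.Modules.pullback i).obj L) := by
  obtain ⟨hL', rfl⟩ := hL
  have h := Snapper.phi_push k i hi (L := fun _ : Fin 1 => L) (fun _ => hL') (fun _ => 1)
  obtain ⟨e⟩ := Snapper.nonempty_pullback_invPows i 1 (fun _ : Fin 1 => L) (fun _ => hL') (fun _ => 1)
  have hc : HasCls (Snapper.invPows 1 (fun _ : Fin 1 => L) (fun _ => 1)) (clsMod hL') :=
    ⟨_, (Kleiman.cls_invPows 1 (fun _ : Fin 1 => L) (fun _ => hL') (fun _ => 1)).trans (by simp)⟩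
  rw [← Euler.euler_of_iso k e] at h
  obtain ⟨e'⟩ := hc.iso (hasCls_clsMod hL') rfl
  rw [Euler.euler_of_iso k ((Scheme.Modules.pullback i).mapIso e')] at h
  rw [ev_eq k hc]
  exact Int.cast_injective h

theorem curveDeg_eq {Y : Scheme.{u}} (i : Y ⟶ X) [IsClosedImmersion i] (hY : topologicalKrullDim Y = 1)
    {L : X.Modules} {z : Pic X} (hL : HasCls L z) :
    Pic13.curveDeg k (i ≫ (X ↘ Spec (CommRingCat.of k))) ((Scheme.Modules.pullback i).obj L) =
      ev k ((Coh.push i).obj (Coh.structureModule Y)) z - ev k ((Coh.push i).obj (Coh.structureModule Y)) 1 := by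
  letI : Y.Over (Spec (CommRingCat.of k)) := ⟨i ≫ X ↘ Spec (CommRingCat.of k)⟩
  haveI : IsProper (Y ↘ Spec (CommRingCat.of k)) := inferInstanceAs (IsProper (i ≫ X ↘ Spec (CommRingCat.of k)))
  rw [ev_push k i rfl hL, ev_push k i rfl (hasCls_structureModule X),
    Euler.euler_of_iso k (OX.pullUnitIso i),
    ← eulerCharLE_eq k (d := 1) hY.le, ← eulerCharLE_eq k (d := 1) hY.le]
  rfl

include k in
/-- A proper scheme over a field has finite dimension. -/
theorem exists_dim_le (X : Scheme.{u}) [X.Over (Spec (CommRingCat.of k))]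
    [IsProper (X ↘ Spec (CommRingCat.of k))] : ∃ d : ℕ, topologicalKrullDim X ≤ (d : WithBot ℕ∞) := by
  let f := X ↘ Spec (CommRingCat.of k)
  obtain ⟨d, hd⟩ := EulerConst10.exists_dim_fiber_le_on f (isAffineOpen_top (Spec (CommRingCat.of k)))
  refine ⟨d, ?_⟩
  let s : Spec (CommRingCat.of k) := IsLocalRing.closedPoint k
  have hr : Set.range (f.fiberι s) = (Set.univ : Set X) := by
    rw [Scheme.Hom.range_fiberι]
    exact Set.eq_univ_of_forall fun x => Subsingleton.elim _ _
  refine le_trans (le_of_eq ?_) (hd s trivial)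
  exact (IsHomeomorph.topologicalKrullDim_eq _ (((f.fiberι s).isEmbedding.toHomeomorph).trans
    ((Homeomorph.setCongr hr).trans (Homeomorph.Set.univ X))).isHomeomorph).symm

end GrothLib.FGAInt26
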