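import Groth.Prelude.Def_FGA
import Groth.Agent.Lib.Snapper.ZGrowth
import Groth.Agent.Lib.Snapper.Polynomial
import Groth.Agent.Lib.ArSurf29.Multiple
import Groth.Agent.S0458

/-!
# The alternating sums `FGA.intNum` as finite differences on the Picard group
-/

set_option autoImplicit false
set_option maxHeartbeats 400000
set_option linter.style.haveILetI false
set_option backward.isDefEq.respectTransparency false

universe u

open CategoryTheory CategoryTheory.Limits AlgebraicGeometry TopologicalSpace

noncomputable section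

namespace GrothLib.FGAInt26

open GrothLib.Euler (tF)
open GrothLib.Cube (Pic clsMod HasCls hasCls_clsMod hasCls_structureModule)
open GrothLib.HodgeIndex (rep isInv_rep cls_rep)
open GrothLib.Snapper (tw tw_iso DimLT phi mixed)

section Algebra

variable {G : Type*} [CommMonoid G]

/-- The alternating sum of a function over the partial products of a family. -/
def del (χ : G → ℤ) {r : ℕ} (z : Fin r → G) : ℤ :=
  ∑ b : Fin r → Bool, (∏ i, if b i then (-1 : ℤ) else 1) * χ (∏ i, if b i then z i else 1)

theorem del_cons (χ : G → ℤ) {r : ℕ} (a : G) (z : Fin r → G) :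
    del χ (Fin.cons a z : Fin (r + 1) → G) = del χ z - del (fun w => χ (a * w)) z := by
  unfold del
  rw [← Fintype.sum_equiv (Fin.consEquiv fun _ : Fin (r + 1) => Bool) _ _ (fun _ => rfl), Fintype.sum_prod_type,
    Fintype.sum_bool, sub_eq_add_neg, add_comm, ← Finset.sum_neg_distrib]
  simp [Fin.consEquiv, Fin.prod_univ_succ]

theorem del_comp (χ : G → ℤ) {r : ℕ} (z : Fin r → G) (σ : Equiv.Perm (Fin r)) :
    del χ (z ∘ σ) = del χ z := by
  unfold del
  refine Fintype.sum_equiv (σ.arrowCongr (Equiv.refl Bool)) _ _ fun b => ?_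
  congr 1
  · rw [← Equiv.prod_comp σ (fun i => if (σ.arrowCongr (Equiv.refl Bool) b) i then (-1 : ℤ) else 1)]
    simp [Equiv.arrowCongr]
  · congr 1
    rw [← Equiv.prod_comp σ (fun i => if (σ.arrowCongr (Equiv.refl Bool) b) i then z i else 1)]
    simp [Equiv.arrowCongr]

theorem del_sub (χ χ' : G → ℤ) {r : ℕ} (z : Fin r → G) :
    del (fun w => χ w - χ' w) z = del χ z - del χ' z := by
  simp only [del, mul_sub, Finset.sum_sub_distrib]

theorem del_add (χ χ' : G → ℤ) {r : ℕ} (z : Fin r → G) :
    del (fun w => χ w + χ' w) z = del χ z + del χ' z := by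
  simp only [del, mul_add, Finset.sum_add_distrib]

theorem sum_finset_eq_del (χ : G → ℤ) {r : ℕ} (z : Fin r → G) :
    ∑ I : Finset (Fin r), (-1 : ℤ) ^ I.card * χ (∏ i ∈ I, z i) = del χ z := by
  classical
  unfold del
  refine Fintype.sum_equiv
    { toFun := fun I i => decide (i ∈ I)
      invFun := fun b => Finset.univ.filter fun i => b i
      left_inv := fun I => by ext; simp
      right_inv := fun b => by funext i; simp } _ _ fun I => ?_
  simp [Finset.prod_ite, Finset.prod_const, Finset.filter_mem_eq_inter]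

end Algebra

variable {X : Scheme.{u}} (k : Type u) [Field k] [X.Over (Spec (CommRingCat.of k))]

/-- `χ` of the twist of a module by a class. -/
def ev (F : X.Modules) (z : Pic X) : ℤ := Curv2.euler k X (tw F z)

theorem ev_iso {F G : X.Modules} (e : F ≅ G) (z : Pic X) : ev k F z = ev k G z :=
  Euler.euler_of_iso k ((tF (rep z)).mapIso e)

theorem ev_tw (F : X.Modules) (z w : Pic X) : ev k (tw F z) w = ev k F (z * w) := by
  obtain ⟨e⟩ := tw_iso (F := F)
    (HasCls.tensor (⟨isInv_rep z, cls_rep z⟩ : HasCls (rep z) z) (⟨isInv_rep w, cls_rep w⟩ : HasCls (rep w) w))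
  exact Euler.euler_of_iso k (OX.tensorAssoc F (rep z) (rep w) ≪≫ e.symm)

theorem ev_eq {F L : X.Modules} {z : Pic X} (hL : HasCls L z) :
    ev k F z = Curv2.euler k X ((tF L).obj F) := by
  obtain ⟨e⟩ := tw_iso (F := F) hL
  exact Euler.euler_of_iso k e

theorem ev_one (F : X.Modules) : ev k F 1 = Curv2.euler k X F := by
  rw [ev_eq k (hasCls_structureModule X), Euler.euler_of_iso k (Euler.tFUnitIso F)]

theorem euler_tensor_eq {F L : X.Modules} {z : Pic X} (hL : HasCls L z) :
    Curv2.euler k X (CohB1.tensorMod L F) = ev k F z := by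
  rw [ev_eq k hL]
  exact Euler.euler_of_iso k (GrTilde.tensorModComm L F)

theorem euler_tensor_eq' {F L : X.Modules} {z : Pic X} (hL : HasCls L z) :
    Curv2.euler k X (CohB1.tensorMod F L) = ev k F z :=
  (ev_eq k hL).symm

variable [IsProper (X ↘ Spec (CommRingCat.of k))]

/-- `χ` computed in degrees up to the dimension is the Euler characteristic. -/
theorem eulerCharLE_eq {d : ℕ} (hd : topologicalKrullDim X ≤ (d : WithBot ℕ∞)) (F : X.Modules) :
    FGA.eulerCharLE k X F d = Curv2.euler k X F := by
  haveI := Euler.isNoetherian_of_proper (X := X) k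
  haveI : TopologicalSpace.NoetherianSpace X.toTopCat := inferInstanceAs (TopologicalSpace.NoetherianSpace X)
  rw [Euler.euler_eq_sum k F (N := d + 1) fun p hp =>
    Groth.Agent.S0458.result (X := X.toTopCat) d hd (Coh.toAb F) p (Nat.lt_of_succ_le hp)]
  rfl

include k in
theorem isCoh_tw {F : X.Modules} (hF : Coh.IsCoh F) (z : Pic X) : Coh.IsCoh (tw F z) := by
  haveI := Euler.isNoetherian_of_proper (X := X) k
  exact Euler.isCoh_tF hF (Euler.isFinLocFree_of_isInvertible (isInv_rep z))

omit [X.Over (Spec (CommRingCat.of k))] [IsProper (X ↘ Spec (CommRingCat.of k))] in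
theorem dimLT_tw {F : X.Modules} {d : ℕ} (h : DimLT (CohB1.support F) d) (z : Pic X) :
    DimLT (CohB1.support (tw F z)) d :=
  h.mono (Euler.support_tF_subset (Euler.isFinLocFreeOfRank_one' (isInv_rep z)))

omit [IsProper (X ↘ Spec (CommRingCat.of k))] in
theorem phi_eq_ev {r : ℕ} (F : X.Modules) (z : Fin r → Pic X) (n : Fin r → ℕ) :
    phi k r (fun i => rep (z i)) F n = (ev k F (∏ i, z i ^ n i) : ℚ) := by
  have h := Kleiman.cls_invPows r (fun i => rep (z i)) (fun i => isInv_rep _) n
  simp only [cls_rep] at h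
  exact congrArg Int.cast (ev_eq k ⟨_, h⟩).symm

omit [IsProper (X ↘ Spec (CommRingCat.of k))] in
theorem cast_del {r : ℕ} (F : X.Modules) (z : Fin r → Pic X) :
    (del (ev k F) z : ℚ) = (-1) ^ r * mixed r (phi k r (fun i => rep (z i)) F) := by
  classical
  rw [← sum_finset_eq_del]
  show _ = (-1 : ℚ) ^ r * ∑ S : Finset (Fin r), (-1 : ℚ) ^ (r - S.card) * phi k r (fun i => rep (z i)) F (Snapper.ind S)
  rw [Finset.mul_sum]
  push_cast
  refine Finset.sum_congr rfl fun S _ => ?_
  have hS : S.card ≤ r := (Finset.card_le_univ S).trans_eq (Fintype.card_fin r)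
  have hp : ∏ i, z i ^ Snapper.ind S i = ∏ i ∈ S, z i := by
    simp [Snapper.ind, pow_ite, Finset.prod_ite_mem]
  rw [phi_eq_ev, hp, ← mul_assoc]
  congr 1
  obtain ⟨j, hj⟩ := Nat.exists_eq_add_of_le hS
  rw [show r - S.card = j by omega, show (-1 : ℚ) ^ r = (-1) ^ (S.card + j) from congrArg _ hj, pow_add, mul_assoc, ← mul_pow, neg_one_mul, neg_neg, one_pow, mul_one]

/-- Differences of order larger than the dimension of the support vanish. -/
theorem del_eq_zero {r : ℕ} {F : X.Modules} (hF : Coh.IsCoh F) (h : DimLT (CohB1.support F) r) (z : Fin r → Pic X) :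
    del (ev k F) z = 0 := by
  have := cast_del k F z
  rw [Snapper.mixed_eq_zero (Snapper.phi_mem_polyLT k (fun i => isInv_rep (z i)) r F hF h), mul_zero] at this
  exact_mod_cast this

/-- Differences of maximal order are invariant under twists. -/
theorem del_shift {r : ℕ} {F : X.Modules} (hF : Coh.IsCoh F) (h : DimLT (CohB1.support F) (r + 1)) (a : Pic X)
    (z : Fin r → Pic X) : del (fun w => ev k F (a * w)) z = del (ev k F) z := by
  have := del_eq_zero k hF h (Fin.cons a z : Fin (r + 1) → Pic X)
  rw [del_cons] at this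
  omega

theorem del_mul {r : ℕ} {F : X.Modules} (hF : Coh.IsCoh F) (h : DimLT (CohB1.support F) (r + 2)) (a b : Pic X)
    (z : Fin r → Pic X) : del (ev k F) (Fin.cons (a * b) z : Fin (r + 1) → Pic X) =
      del (ev k F) (Fin.cons a z : Fin (r + 1) → Pic X) + del (ev k F) (Fin.cons b z : Fin (r + 1) → Pic X) := by
  have := del_eq_zero k hF h (Fin.cons a (Fin.cons b z : Fin (r + 1) → Pic X) : Fin (r + 2) → Pic X)
  rw [del_cons, del_cons, del_cons] at this
  simp only [← mul_assoc] at this
  rw [del_cons, del_cons, del_cons]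
  omega

/-- `FGA.intNum` is a difference of `χ` on the Picard group. -/
theorem intNum_eq {d : ℕ} (hd : topologicalKrullDim X ≤ (d : WithBot ℕ∞)) {r : ℕ} {M : Fin r → X.Modules}
    (hM : ∀ i, PicF.IsInvertible (M i)) (F : X.Modules) :
    FGA.intNum k X d M F = del (ev k F) (fun i => clsMod (hM i)) := by
  rw [← sum_finset_eq_del, FGA.intNum]
  refine Finset.sum_congr rfl fun I _ => ?_
  rw [eulerCharLE_eq k hd]
  congr 1
  refine euler_tensor_eq k ?_
  have key : ∀ l : List (Fin r), HasCls (FGA.tensorList (l.map M)) (l.map fun i => clsMod (hM i)).prod := by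
    intro l
    induction l with
    | nil => exact hasCls_structureModule X
    | cons i l ih => exact HasCls.tensor (hasCls_clsMod (hM i)) ih
  have hI : ∏ i ∈ I, clsMod (hM i) = ((I.sort (· ≤ ·)).map fun i => clsMod (hM i)).prod := by
    rw [Finset.prod_eq_multiset_prod, ← Multiset.prod_coe, ← Multiset.map_coe, Finset.sort_eq]
  rw [hI]
  exact key _

omit [IsProper (X ↘ Spec (CommRingCat.of k))] in
theorem dimLT_of_le {S : Set X} {r : ℕ} (h : topologicalKrullDim S ≤ (r : WithBot ℕ∞)) : DimLT S (r + 1) :=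
  Snapper.dimLT_of_dim_le h

end GrothLib.FGAInt26
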