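import Groth.Agent.Lib.FGAInt26.Numerical
import Groth.Agent.Lib.FGAInt26.Newton
import Groth.Agent.Lib.ProjPic26.Relative
import Groth.Agent.Lib.NefGrowth.IntNum
import Groth.Prelude.Def_Pic13

/-!
The top two coefficients of a Hilbert polynomial in the binomial basis.
-/

universe u

open CategoryTheory AlgebraicGeometry Limits

set_option maxHeartbeats 400000
set_option backward.isDefEq.respectTransparency false

namespace GrothLib.FGAInt26

open GrothLib.Snapper (DimLT tw)
open GrothLib.Cube (Pic clsMod HasCls)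

/-- The coefficients in the binomial basis are determined by the values. -/
theorem binom_coeff_unique : ∀ (n : ℕ) (c : ℕ → ℤ) (N : ℕ),
    (∀ m, N ≤ m → ∑ j ∈ Finset.range n, c j * ((m + j).choose j : ℤ) = 0) → ∀ j, j < n → c j = 0
  | 0, _, _, _, j, hj => absurd hj (by omega)
  | n + 1, c, N, h, j, hj => by
    have h' : ∀ m, N + 1 ≤ m → ∑ i ∈ Finset.range n, c (i + 1) * ((m + i).choose i : ℤ) = 0 := by
      intro m hm
      obtain ⟨m, rfl⟩ : ∃ l, m = l + 1 := ⟨m - 1, by omega⟩
      have e1 := h (m + 1) (by omega)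
      have e0 := h m (by omega)
      rw [Finset.sum_range_succ'] at e1 e0
      simp only [Nat.choose_zero_right, Nat.cast_one, mul_one] at e1 e0
      have e : ∀ i, ((m + 1 + (i + 1)).choose (i + 1) : ℤ) =
          ((m + 1 + i).choose i : ℤ) + ((m + (i + 1)).choose (i + 1) : ℤ) := fun i => by
        rw [show m + 1 + (i + 1) = (m + 1 + i) + 1 by omega, Nat.choose_succ_succ, Nat.cast_add,
          show m + (i + 1) = m + 1 + i by omega]
      simp only [e, mul_add, Finset.sum_add_distrib] at e1
      linarith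
    have hs := binom_coeff_unique n (fun i => c (i + 1)) (N + 1) h'
    match j with
    | 0 =>
      have := h N le_rfl
      rw [Finset.sum_range_succ', Finset.sum_eq_zero fun i hi => by
        rw [hs i (Finset.mem_range.1 hi), zero_mul]] at this
      simpa using this
    | j + 1 => exact hs j (by omega)

/-- The coefficients of the binomial expansion of `χ(G(m))`. -/
theorem coeff_eq (D : ℕ → ℤ) (r : ℕ) (hr : D (r + 1) = 0) (f : ℕ → ℤ)
    (hf : ∀ m, f m = ∑ i ∈ Finset.range (r + 1), ((m + i - 1).choose i : ℤ) * D i)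
    (a : Fin (r + 1) → ℤ) (ha : ∀ m, f m = ∑ j : Fin (r + 1), a j * ((m + j).choose j : ℤ)) :
    ∀ j : Fin (r + 1), a j = D j - D (j + 1) := by
  intro j
  let c : ℕ → ℤ := fun i => (if h : i < r + 1 then a ⟨i, h⟩ else 0) - (D i - D (i + 1))
  have hc := binom_coeff_unique (r + 1) c 1 (fun m hm => ?_) j j.2
  · simp only [c, j.2, dite_true, sub_eq_zero] at hc
    exact hc
  have key : ∑ i ∈ Finset.range (r + 1), (D i - D (i + 1)) * ((m + i).choose i : ℤ) = f m := by
    rw [hf, Finset.sum_range_succ' (fun i => ((m + i - 1).choose i : ℤ) * D i),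
      Finset.sum_congr rfl (g := fun i => D i * ((m + i).choose i : ℤ) - D (i + 1) * ((m + i).choose i : ℤ))
        (fun i _ => sub_mul _ _ _), Finset.sum_sub_distrib,
      Finset.sum_range_succ' (fun i => D i * ((m + i).choose i : ℤ)),
      Finset.sum_range_succ (fun i => D (i + 1) * ((m + i).choose i : ℤ)), hr]
    simp only [Nat.choose_zero_right, Nat.cast_one, mul_one, one_mul, zero_mul, add_zero]
    rw [add_sub_right_comm, ← Finset.sum_sub_distrib]
    congr 1
    refine Finset.sum_congr rfl fun i _ => ?_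
    rw [show m + (i + 1) = (m + i) + 1 by omega, Nat.choose_succ_succ, Nat.cast_add,
      show m + i + 1 - 1 = m + i by omega]
    simp only [Nat.succ_eq_add_one]
    ring
  rw [Finset.sum_congr rfl (g := fun i => (if h : i < r + 1 then a ⟨i, h⟩ else 0) * ((m + i).choose i : ℤ) -
      (D i - D (i + 1)) * ((m + i).choose i : ℤ)) (fun i _ => sub_mul _ _ _), Finset.sum_sub_distrib, key,
    sub_eq_zero, ha, ← Fin.sum_univ_eq_sum_range
      (fun i => (if h : i < r + 1 then a ⟨i, h⟩ else 0) * ((m + i).choose i : ℤ))]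
  exact Finset.sum_congr rfl fun i _ => by simp [i.2]

variable (k : Type u) [Field k] {X : Scheme.{u}} [X.Over (Spec (CommRingCat.of k))]
  [IsProper (X ↘ Spec (CommRingCat.of k))]

theorem dimLT_all {F : X.Modules} {r : ℕ} (h : topologicalKrullDim X ≤ (r : WithBot ℕ∞)) :
    DimLT (CohB1.support F) (r + 1) :=
  (Kleiman.dimLT_univ h).mono fun _ _ => trivial

/-- `χ` of an invertible module. -/
theorem euler_eq_ev {L : X.Modules} {z : Pic X} (hL : HasCls L z) :
    Curv2.euler k X L = ev k (Coh.structureModule X) z := by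
  rw [← euler_tensor_eq k hL]
  exact Euler.euler_of_iso k (Euler.tFUnitIso L).symm

/-- The top two coefficients of `χ(L(m))` in the binomial basis. -/
theorem coeff_twist {h l : Pic X} (hO : Coh.IsCoh (Coh.structureModule X)) {r : ℕ}
    (hdim : topologicalKrullDim X ≤ (r : WithBot ℕ∞)) (f : ℕ → ℤ)
    (hf : ∀ m : ℕ, f m = ev k (Coh.structureModule X) (l * h ^ m)) (a : Fin (r + 1) → ℤ)
    (ha : ∀ m, f m = ∑ j : Fin (r + 1), a j * ((m + j).choose j : ℤ)) (j : Fin (r + 1)) :
    a j = del (fun w => ev k (Coh.structureModule X) (l * w)) (fun _ : Fin (j : ℕ) => h⁻¹) -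
      del (fun w => ev k (Coh.structureModule X) (l * w)) (fun _ : Fin (j + 1 : ℕ) => h⁻¹) := by
  have hd := dimLT_all (F := tw (Coh.structureModule X) l) hdim
  have he : ev k (tw (Coh.structureModule X) l) = fun w => ev k (Coh.structureModule X) (l * w) :=
    funext fun w => ev_tw k _ l w
  refine coeff_eq (fun i => del (fun w => ev k (Coh.structureModule X) (l * w)) (fun _ : Fin i => h⁻¹)) r
    ?_ f (fun m => ?_) a ha j
  · rw [← he]
    exact del_eq_zero k (isCoh_tw k hO l) hd _
  · rw [hf, ← he, ← ev_tw]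
    exact ev_pow_eq k (isCoh_tw k hO l) hd h m

theorem coeff_top {h l : Pic X} (hO : Coh.IsCoh (Coh.structureModule X)) {s : ℕ}
    (hdim : topologicalKrullDim X ≤ ((s + 1 : ℕ) : WithBot ℕ∞)) (a e : Fin (s + 2) → ℤ)
    (ha : ∀ m : ℕ, ev k (Coh.structureModule X) (l * h ^ m) = ∑ j : Fin (s + 2), a j * ((m + j).choose j : ℤ))
    (he : ∀ m : ℕ, ev k (Coh.structureModule X) (1 * h ^ m) = ∑ j : Fin (s + 2), e j * ((m + j).choose j : ℤ)) :
    a (Fin.last (s + 1)) = e (Fin.last (s + 1)) ∧
      a (Fin.last (s + 1)) = del (ev k (Coh.structureModule X)) (fun _ : Fin (s + 1) => h⁻¹) ∧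
      a (Fin.castSucc (Fin.last s)) - e (Fin.castSucc (Fin.last s)) =
        del (ev k (Coh.structureModule X)) (Fin.cons l⁻¹ (fun _ : Fin s => h⁻¹) : Fin (s + 1) → Pic X) := by
  set χ := ev k (Coh.structureModule X) with hχ
  have hd := dimLT_all (F := Coh.structureModule X) hdim
  have A := coeff_twist k hO hdim _ (fun m => rfl) a ha
  have E := coeff_twist k hO hdim _ (fun m => rfl) e he
  have z : ∀ c, del (fun w => χ (c * w)) (fun _ : Fin (s + 1 + 1) => h⁻¹) = 0 := fun c => by
    rw [hχ, show (fun w => ev k (Coh.structureModule X) (c * w)) = ev k (tw (Coh.structureModule X) c) from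
      (funext fun w => (ev_tw k _ c w).symm)]
    exact del_eq_zero k (isCoh_tw k hO c) (dimLT_all hdim) _
  have t : ∀ c, del (fun w => χ (c * w)) (fun _ : Fin (s + 1) => h⁻¹) = del χ (fun _ : Fin (s + 1) => h⁻¹) :=
    fun c => del_shift k hO hd c _
  have aT := A (Fin.last (s + 1))
  have eT := E (Fin.last (s + 1))
  have aP := A (Fin.castSucc (Fin.last s))
  have eP := E (Fin.castSucc (Fin.last s))
  simp only [Fin.val_last, Fin.val_castSucc, one_mul] at aT eT aP eP
  rw [← hχ] at aT eT aP eP
  eta_reduce at aT eT aP eP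
  rw [z, t] at aT
  rw [t] at aP
  rw [show del χ (fun _ : Fin (s + 1 + 1) => h⁻¹) = 0 from by simpa using z 1] at eT
  refine ⟨by omega, by omega, ?_⟩
  have m := del_mul k hO (r := s) hd l l⁻¹ (fun _ : Fin s => h⁻¹)
  rw [mul_inv_cancel, ← hχ, del_cons χ (1 : Pic X), del_cons χ l] at m
  simp only [one_mul, sub_self] at m
  omega

end GrothLib.FGAInt26
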